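import Groth.Agent.CAlgOdd.FlatDescFinite
import Mathlib

/-!
# Flatness of ideally separated modules
-/

universe u

open TensorProduct

namespace Groth.Agent.FlatSep

variable {A : Type u} [CommRing A] (M : Type u) [AddCommGroup M] [Module A M]

/-- Base change to a finite product of algebras is flat if it is so factor by factor. -/
theorem flat_pi {ι : Type u} [Finite ι] (L : ι → Type u) [∀ i, CommRing (L i)] [∀ i, Algebra A (L i)]
    (h : ∀ i, Module.Flat (L i) (L i ⊗[A] M)) : Module.Flat (∀ i, L i) ((∀ i, L i) ⊗[A] M) := by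
  classical
  cases nonempty_fintype ι
  letI : ∀ p, Algebra (∀ p, L p) (L p) := fun p => (Pi.evalRingHom L p).toAlgebra
  haveI : ∀ p, IsScalarTower A (∀ p, L p) (L p) := fun p => .of_algebraMap_eq fun _ => rfl
  let π : ∀ p, (∀ p, L p) →ₗ[∀ p, L p] L p := fun p =>
    { toFun := fun f => f p, map_add' := fun _ _ => rfl, map_smul' := fun _ _ => rfl }
  let σ : ∀ p, L p →ₗ[∀ p, L p] (∀ p, L p) := fun p =>
    { toFun := Pi.single p
      map_add' := fun x y => Pi.single_add p x y
      map_smul' := fun r x => by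
        show Pi.single p (r p * x) = r * Pi.single p x
        funext q
        rcases eq_or_ne q p with rfl | h
        · simp
        · simp [Pi.single_eq_of_ne h] }
  haveI : ∀ p, Module.Flat (∀ p, L p) (L p) := fun p => Module.Flat.of_retract (σ p) (π p) (LinearMap.ext fun x => Pi.single_eq_same p x)
  haveI : ∀ p, Module.Flat (∀ p, L p) (L p ⊗[A] M) := fun p => by
    haveI := h p
    exact Module.Flat.trans (∀ p, L p) (L p) _
  let π' : ∀ p, (∀ p, L p) ⊗[A] M →ₗ[∀ p, L p] L p ⊗[A] M := fun p =>
    TensorProduct.AlgebraTensorModule.map (π p) LinearMap.id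
  let σ' : ∀ p, L p ⊗[A] M →ₗ[∀ p, L p] (∀ p, L p) ⊗[A] M := fun p =>
    TensorProduct.AlgebraTensorModule.map (σ p) LinearMap.id
  have hsum : ∀ z, ∑ p, σ' p (π' p z) = z := by
    intro z
    induction z using TensorProduct.induction_on with
    | zero => simp
    | add u v hu hv => simp only [map_add, Finset.sum_add_distrib, hu, hv]
    | tmul f m =>
      simp only [π', σ', TensorProduct.AlgebraTensorModule.map_tmul, LinearMap.id_apply]
      rw [← TensorProduct.sum_tmul]
      congr 1
      exact Finset.univ_sum_single f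
  let i : (∀ p, L p) ⊗[A] M →ₗ[∀ p, L p] DirectSum _ (fun p => L p ⊗[A] M) :=
    ∑ p, (DirectSum.lof (∀ p, L p) _ (fun p => L p ⊗[A] M) p).comp (π' p)
  let r : DirectSum _ (fun p => L p ⊗[A] M) →ₗ[∀ p, L p] (∀ p, L p) ⊗[A] M :=
    DirectSum.toModule _ _ _ σ'
  exact Module.Flat.of_retract i r (by
    refine LinearMap.ext fun z => ?_
    simp [i, r, hsum])

theorem flat_atPrime_tensor (q : Ideal A) [q.IsPrime]
    (h : Module.Flat (Localization.AtPrime q) (LocalizedModule q.primeCompl M)) :
    Module.Flat (Localization.AtPrime q) (Localization.AtPrime q ⊗[A] M) := by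
  haveI : Module.Flat (Localization q.primeCompl) (LocalizedModule q.primeCompl M) := h
  exact Module.Flat.of_linearEquiv (R := Localization q.primeCompl)
    (LocalizedModule.equivTensorProduct q.primeCompl M).symm

open CAlgOdd.FlatDesc in
/-- Flatness modulo `J` spreads to flatness modulo every ideal containing some `φ⁻¹(J^N R')`, provided the base
change to `R'` is flat. -/
theorem flat_quot_of_comap_le (R' : Type u) [CommRing R'] [Algebra A R'] [Module.Flat R' (R' ⊗[A] M)]
    (J : Ideal A) [Module.Flat (A ⧸ J) ((A ⧸ J) ⊗[A] M)] (L : Ideal A) (N : ℕ)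
    (hL : ((J ^ N).map (algebraMap A R')).comap (algebraMap A R') ≤ L) :
    Module.Flat (A ⧸ L) ((A ⧸ L) ⊗[A] M) := by
  let seq : ℕ → Ideal A := combSeq (algebraMap A R') J
  have hflat : ∀ k : ℕ, Module.Flat (A ⧸ seq k) ((A ⧸ seq k) ⊗[A] M) := by
    intro k
    induction k with
    | zero => assumption
    | succ k ih => exact @flat_comap_sq A _ M _ _ R' _ _ (seq k) ih _
  have hseq : ∀ k : ℕ, (seq k).map (algebraMap A R') ≤ (J ^ (2 ^ k)).map (algebraMap A R') := by
    intro k
    induction k with
    | zero => simp [seq, combSeq]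
    | succ k ih =>
      refine Ideal.map_comap_le.trans ?_
      rw [Ideal.map_pow, Ideal.map_pow, pow_succ 2 k, pow_mul]
      rw [Ideal.map_pow] at ih
      exact Ideal.pow_right_mono ih 2
  haveI := hflat N
  refine flat_quot_of_le (R := A) M (I := seq N) (le_trans ?_ hL)
  exact Ideal.le_comap_map.trans (Ideal.comap_mono
    ((hseq _).trans (Ideal.map_mono (Ideal.pow_le_pow_right (Nat.lt_two_pow_self).le))))

/-- An ideally separated module which is flat modulo all powers of the ideal is flat. -/
theorem flat_of_forall_pow [IsNoetherianRing A] (J : Ideal A) (hsep : ∀ a : Ideal A, IsHausdorff J (↥a ⊗[A] M))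
    (h : ∀ n : ℕ, Module.Flat (A ⧸ J ^ n) ((A ⧸ J ^ n) ⊗[A] M)) : Module.Flat A M := by
  rw [Module.Flat.iff_rTensor_injective']
  intro a
  rw [injective_iff_map_eq_zero]
  intro z hz
  refine (hsep a).haus' z fun n => ?_
  rw [SModEq.zero]
  obtain ⟨c, hc⟩ := Ideal.exists_pow_inf_eq_pow_smul J (a : Submodule A A)
  let K : Submodule A a := Submodule.comap a.subtype (J ^ (n + c))
  let f : (↥a ⧸ K) →ₗ[A] A ⧸ J ^ (n + c) := Submodule.mapQ K _ a.subtype le_rfl
  have hf : Function.Injective f := by
    rw [injective_iff_map_eq_zero]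
    intro x hx
    obtain ⟨x, rfl⟩ := Submodule.Quotient.mk_surjective _ x
    exact (Submodule.Quotient.mk_eq_zero _).2 ((Submodule.Quotient.mk_eq_zero (J ^ (n + c))).1 hx)
  haveI := h (n + c)
  have hcomm : f ∘ₗ K.mkQ = (Submodule.mkQ (J ^ (n + c))) ∘ₗ a.subtype := rfl
  have h0 : K.mkQ.rTensor M z = 0 := by
    refine FlatInter.rTensor_injective M (J ^ (n + c)) f hf ?_
    rw [map_zero, ← LinearMap.comp_apply, ← LinearMap.rTensor_comp, hcomm, LinearMap.rTensor_comp,
      LinearMap.comp_apply, hz, map_zero]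
  have hex := rTensor_exact M (LinearMap.exact_subtype_mkQ K) K.mkQ_surjective
  obtain ⟨w, rfl⟩ := (hex z).1 h0
  have hK : ∀ x : K, (x : ↥a) ∈ (J ^ n • ⊤ : Submodule A a) := by
    rintro ⟨⟨x, hxa⟩, hx⟩
    have h1 : x ∈ J ^ (n + c) • (⊤ : Submodule A A) ⊓ (a : Submodule A A) :=
      ⟨by simpa [Ideal.smul_eq_mul] using (show x ∈ J ^ (n + c) from hx), hxa⟩
    rw [hc (n + c) (Nat.le_add_left c n), Nat.add_sub_cancel] at h1
    have h2 : x ∈ J ^ n • (a : Submodule A A) := Submodule.smul_mono le_rfl inf_le_right h1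
    rw [← Submodule.map_subtype_top (a : Submodule A A), ← Submodule.map_smul''] at h2
    obtain ⟨y, hy, hyx⟩ := h2
    have hy' : y = ⟨x, hxa⟩ := Subtype.ext hyx
    subst hy'
    exact hy
  clear hz h0
  induction w using TensorProduct.induction_on with
  | zero => simp
  | tmul x m =>
    show (x : ↥a) ⊗ₜ[A] m ∈ _
    refine Submodule.smul_induction_on (hK x) (fun r hr y _ => ?_) fun y y' hy hy' => ?_
    · rw [← TensorProduct.smul_tmul']
      exact Submodule.smul_mem_smul hr trivial
    · rw [TensorProduct.add_tmul]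
      exact add_mem hy hy'
  | add w w' hw hw' =>
    rw [map_add]
    exact add_mem hw hw'

end Groth.Agent.FlatSep
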